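import Mathlib
import Cfsg.Prelude.Def_Characters
import Cfsg.Agent.Lib.L0.CharInd
import Cfsg.Agent.Lib.L0.CharIndChar
import Cfsg.Agent.Lib.L0.CharDecomp
import Cfsg.Agent.Lib.L0.CharOps
import Cfsg.Agent.Lib.L0.CharInner

/-!
# S4551 piece (INV), part A (helper28)
An irreducible character `ϑ` of a subgroup `H ≤ X` with nonzero `p`-regular sum lies under an
irreducible character `χ` of `X` with nonzero `p`-regular sum.
-/

set_option autoImplicit false
open scoped ComplexConjugate

namespace Cfsg.Agent.Lib.H28.AP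

open Cfsg.Agent.Lib.L0

variable {X : Type*} [Group X]

/-- indicator of the `p`-regular elements -/
noncomputable def pregInd (p : ℕ) : X → ℂ := fun x => if p ∣ orderOf x then 0 else 1

theorem isClassFunction_pregInd (p : ℕ) : Cfsg.IsClassFunction X (pregInd p) := by
  classical
  intro g h
  unfold pregInd
  have : orderOf (h * g * h⁻¹) = orderOf g := by
    have := orderOf_injective (MulAut.conj h).toMonoidHom (MulAut.conj h).injective g
    simpa using this
  simp only [this]

variable [Fintype X]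

theorem classInner_pregInd (p : ℕ) (f : X → ℂ) :
    Cfsg.classInner f (pregInd p) =
      (Nat.card X : ℂ)⁻¹ * ∑ x : X, (if p ∣ orderOf x then (0 : ℂ) else f x) := by
  classical
  unfold Cfsg.classInner pregInd
  congr 1
  refine Finset.sum_congr rfl fun x _ => ?_
  by_cases h : p ∣ orderOf x
  · simp [h]
  · simp [h]

theorem list_sum_preg (p : ℕ) (l : List (X → ℂ))
    (h : ∀ ψ ∈ l, (∑ x : X, (if p ∣ orderOf x then (0 : ℂ) else ψ x)) = 0) :
    (∑ x : X, (if p ∣ orderOf x then (0 : ℂ) else l.sum x)) = 0 := by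
  classical
  induction l with
  | nil => simp
  | cons a l ih =>
    have h1 := h a (by simp)
    have h2 := ih (fun ψ hψ => h ψ (by simp [hψ]))
    have : ∀ x : X, (if p ∣ orderOf x then (0 : ℂ) else (a :: l).sum x) =
        (if p ∣ orderOf x then 0 else a x) + (if p ∣ orderOf x then 0 else l.sum x) := by
      intro x
      by_cases hx : p ∣ orderOf x
      · simp [hx]
      · simp [hx]
    rw [Finset.sum_congr rfl fun x _ => this x, Finset.sum_add_distrib, h1, h2, add_zero]

/-- (a)+(b): a principal-block constituent of the induced character -/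
theorem exists_principal_over (p : ℕ) (H : Subgroup X) [Fintype H]
    (ϑ : H → ℂ) (hϑ : Cfsg.IsIrrCharacter H ϑ)
    (hB : (∑ h : H, (if p ∣ orderOf h then (0 : ℂ) else ϑ h)) ≠ 0) :
    ∃ χ : X → ℂ, Cfsg.IsIrrCharacter X χ ∧ Cfsg.classInner (fun n : H => χ n) ϑ ≠ 0 ∧
      (∑ x : X, (if p ∣ orderOf x then (0 : ℂ) else χ x)) ≠ 0 := by
  classical
  set Θ := Cfsg.indFun H ϑ with hΘ
  have hΘc : Cfsg.IsCharacter X Θ := isCharacter_indFun H (isCharacter_of_irr hϑ)
  obtain ⟨l, hl, hΘl⟩ := isCharacter_exists_irr_decomp hΘc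
  have hfr := frobenius_reciprocity H ϑ (pregInd p) (isClassFunction_pregInd p)
  rw [classInner_pregInd] at hfr
  have hres : Cfsg.classInner ϑ (fun h : H => pregInd p (h : X)) =
      (Nat.card H : ℂ)⁻¹ * ∑ h : H, (if p ∣ orderOf h then 0 else ϑ h) := by
    unfold Cfsg.classInner pregInd
    congr 1
    refine Finset.sum_congr rfl fun x _ => ?_
    simp only [Subgroup.orderOf_coe]
    by_cases h : p ∣ orderOf x
    · simp [h]
    · simp [h]
  rw [hres] at hfr
  have hX : (Nat.card X : ℂ) ≠ 0 := by exact_mod_cast (Nat.card_pos (α := X)).ne'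
  have hH : (Nat.card H : ℂ) ≠ 0 := by exact_mod_cast (Nat.card_pos (α := H)).ne'
  have hsum : (∑ x : X, (if p ∣ orderOf x then 0 else Θ x)) ≠ 0 := by
    intro h0
    rw [h0, mul_zero] at hfr
    exact mul_ne_zero (inv_ne_zero hH) hB hfr.symm
  have hex : ∃ χ ∈ l, (∑ x : X, (if p ∣ orderOf x then 0 else χ x)) ≠ 0 := by
    by_contra hcon
    push Not at hcon
    apply hsum
    rw [hΘl]
    exact list_sum_preg p l hcon
  obtain ⟨χ, hχl, hχ⟩ := hex
  have hχi := hl χ hχl
  refine ⟨χ, hχi, ?_, hχ⟩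
  have h1 : Cfsg.classInner Θ χ = (l.count χ : ℂ) := by
    rw [hΘl]; exact classInner_irr_list_sum hl hχi
  have h2 := frobenius_reciprocity H ϑ χ (isClassFunction_of_isCharacter (isCharacter_of_irr hχi))
  have h3 : Cfsg.classInner ϑ (fun h : H => χ h) ≠ 0 := by
    rw [← h2, ← hΘ, h1]
    have : 0 < l.count χ := List.count_pos_iff.2 hχl
    exact_mod_cast this.ne'
  rw [← classInner_conj_symm]
  exact (map_ne_zero _).2 h3

end Cfsg.Agent.Lib.H28.AP
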