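import Mathlib
import Cfsg.Prelude.Def_Blocks
import Cfsg.Agent.Lib.H21.AD.Defs
import Cfsg.Agent.Lib.H23.ADCC
import Cfsg.Agent.Lib.H23.ADBR
import Cfsg.Agent.Lib.H23.BlockLocal
import Cfsg.Agent.Lib.H23.Ito
import Cfsg.Agent.Lib.L0.CharInd
import Cfsg.Agent.Lib.L0.CharOps
import Cfsg.Agent.Lib.H28.AP.INVA

/-!
# S4551 piece (INV) (helper28)
`N ⊴ G`, `Q ≤ N` with `p ∤ |N : Q|`, `θ|_N` irreducible in the principal block of `N`
(`sSum p N θ ≠ 0`), `z ∈ C_G(Q)` with `p ∤ |N⟨z⟩ : N|`.  Then `θ` is `z`-invariant.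
Route: a principal-block character `χ` of `J = N⟨z⟩` over `θ` (INVA); if `z` were outside the
inertia group `T` of `θ` in `J`, the Clifford correspondence `χ = Ind_T^J ψ` would give `χ z = 0`,
against (CC).
-/

set_option autoImplicit false
open Cfsg.Agent.Lib.H21.AD
open Cfsg.Agent.Lib.H23.AD (cc sSum_eq_finsum_subtype)

namespace Cfsg.Agent.Lib.H28.AP

open Cfsg.Agent.Lib.L0

variable {G : Type*} [Group G] {p : ℕ} {M : Ideal Cfsg.AlgInt}

/-- conjugates of `z` inside `N ⊔ zpowers z` are congruent to `z` modulo `N` -/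
theorem conj_mem_mul_of_mem_sup (N : Subgroup G) [N.Normal] (z x : G)
    (hx : x ∈ N ⊔ Subgroup.zpowers z) : (x⁻¹ * z * x)⁻¹ * z ∈ N := by
  have hle : N ⊔ Subgroup.zpowers z ≤
      (Subgroup.zpowers ((QuotientGroup.mk' N) z)).comap (QuotientGroup.mk' N) := by
    refine sup_le ?_ ?_
    · intro n hn
      rw [Subgroup.mem_comap]
      have : (QuotientGroup.mk' N) n = 1 := (QuotientGroup.eq_one_iff n).2 hn
      rw [this]
      exact Subgroup.one_mem _
    · rw [Subgroup.zpowers_le, Subgroup.mem_comap]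
      exact Subgroup.mem_zpowers _
  obtain ⟨k, hk⟩ := Subgroup.mem_zpowers_iff.1 (Subgroup.mem_comap.1 (hle hx))
  rw [← QuotientGroup.eq]
  have h1 : ((x⁻¹ * z * x : G) : G ⧸ N) =
      ((QuotientGroup.mk' N) x)⁻¹ * (QuotientGroup.mk' N) z * (QuotientGroup.mk' N) x := by
    simp
  rw [h1, ← hk]
  have : Commute (((QuotientGroup.mk' N) z) ^ k) ((QuotientGroup.mk' N) z) :=
    (Commute.refl _).zpow_left k
  rw [mul_assoc, ← this.eq, ← mul_assoc, inv_mul_cancel, one_mul]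
  rfl

variable [Finite G]

/-- (INV), one element -/
theorem inv_of_principal (hp : p.Prime) (hM : Cfsg.IsPModular p M) (N Q : Subgroup G) [N.Normal]
    (hQN : Q ≤ N) (hQ : ¬ p ∣ Q.relIndex N) (θ : G → ℂ)
    (hirr : Cfsg.IsIrrCharacter N (fun n : N => θ n)) (hB : sSum p N θ ≠ 0)
    (z : G) (hz : z ∈ Subgroup.centralizer (Q : Set G))
    (hpz : ¬ p ∣ N.relIndex (N ⊔ Subgroup.zpowers z)) :
    ∀ n ∈ N, θ (z * n * z⁻¹) = θ n := by
  classical
  have : M.IsPrime := Cfsg.Agent.Lib.H23.isPrime_of_isPModular hM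
  set J : Subgroup G := N ⊔ Subgroup.zpowers z with hJ
  have hNJ : N ≤ J := le_sup_left
  have hzJ : z ∈ J := (le_sup_right : Subgroup.zpowers z ≤ J) (Subgroup.mem_zpowers z)
  haveI : Fintype G := Fintype.ofFinite G
  haveI : Fintype J := Fintype.ofFinite J
  set H : Subgroup J := N.subgroupOf J with hH
  haveI : Fintype H := Fintype.ofFinite H
  haveI hHn : H.Normal := Subgroup.normal_subgroupOf
  set e := Subgroup.subgroupOfEquivOfLe hNJ with he
  set ϑ : H → ℂ := fun n => θ ((n : J) : G) with hϑdef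
  have hϑe : ϑ = (fun n : N => θ n) ∘ e := by
    funext n
    rfl
  have hϑ : Cfsg.IsIrrCharacter H ϑ := by
    rw [hϑe]
    exact isIrrCharacter_comp_of_surjective e.toMonoidHom e.surjective hirr
  -- the `p`-regular sum of `ϑ`
  have hBH : (∑ h : H, (if p ∣ orderOf h then (0 : ℂ) else ϑ h)) ≠ 0 := by
    rw [sSum_eq_finsum_subtype, finsum_eq_sum_of_fintype] at hB
    intro h0
    apply hB
    have hsum : (∑ i : N, (if p ∣ orderOf i then (0 : ℂ) else θ i)) =
        ∑ h : H, (if p ∣ orderOf h then (0 : ℂ) else ϑ h) := by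
      symm
      refine Fintype.sum_equiv e.toEquiv _ _ (fun h => ?_)
      have : orderOf (e h) = orderOf h := MulEquiv.orderOf_eq e h
      simp only [MulEquiv.toEquiv_eq_coe, MulEquiv.coe_toEquiv, this]
      rfl
    rw [hsum, h0]
  obtain ⟨χ, hχ, hcon, hχB⟩ := exists_principal_over p H ϑ hϑ hBH
  -- transport `χ` to a function on `G`
  set f : G → ℂ := fun g => if h : g ∈ J then χ ⟨g, h⟩ else 0 with hf
  have hfχ : (fun y : J => f y) = χ := by
    funext y
    simp only [hf, y.2, dif_pos]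
  have hfi : Cfsg.IsIrrCharacter J (fun y : J => f y) := by rw [hfχ]; exact hχ
  have hfB : sSum p J f ≠ 0 := by
    rw [sSum_eq_finsum_subtype, finsum_eq_sum_of_fintype]
    have : ∀ y : J, (if p ∣ orderOf y then (0 : ℂ) else f y) = (if p ∣ orderOf y then (0 : ℂ) else χ y) := by
      intro y
      rw [← hfχ]
    rw [Finset.sum_congr rfl fun y _ => this y]
    exact hχB
  have hQJ : ¬ p ∣ Q.relIndex J := by
    rw [← Subgroup.relIndex_mul_relIndex Q N J hQN hNJ]
    intro hd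
    rcases hp.dvd_mul.1 hd with hd | hd
    · exact hQ hd
    · exact hpz hd
  have hcc := cc hM J f hfi hfB Q (hQN.trans hNJ) hQJ z hzJ hz
  have hfz : f z ≠ 0 := by
    intro h0
    rw [h0, zero_div, zero_sub] at hcc
    have := Cfsg.Agent.Lib.H23.memLocalIdeal_neg hcc
    rw [neg_neg] at this
    exact Cfsg.Agent.Lib.H23.not_memLocalIdeal_one this
  have hχz : χ ⟨z, hzJ⟩ ≠ 0 := by
    have : f z = χ ⟨z, hzJ⟩ := by simp only [hf, hzJ, dif_pos]
    rwa [this] at hfz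
  -- Clifford correspondence
  set T : Subgroup J := Cfsg.Agent.Lib.H23.inertia H ϑ with hT
  have hHT : H ≤ T :=
    Cfsg.Agent.Lib.H23.le_inertia H (isClassFunction_of_isCharacter (isCharacter_of_irr hϑ))
  haveI : Fintype T := Fintype.ofFinite T
  obtain ⟨ψ, -, hind, -⟩ := Cfsg.Agent.Lib.H23.clifford_correspondence H T hHT ϑ hϑ
    (fun g => Cfsg.Agent.Lib.H23.mem_inertia H ϑ g) χ hχ hcon
  have hzT : (⟨z, hzJ⟩ : J) ∈ T := by
    by_contra hnot
    apply hχz
    rw [← hind, indFun_apply]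
    have : ∀ x : J, Cfsg.extendByZero T ψ (x⁻¹ * ⟨z, hzJ⟩ * x) = 0 := by
      intro x
      apply extendByZero_apply_not_mem
      intro hmem
      apply hnot
      have hm : ((x⁻¹ * ⟨z, hzJ⟩ * x)⁻¹ * ⟨z, hzJ⟩ : J) ∈ H := by
        rw [hH, Subgroup.mem_subgroupOf]
        have := conj_mem_mul_of_mem_sup N z (x : G) x.2
        simpa using this
      have := T.mul_mem hmem (hHT hm)
      rwa [mul_inv_cancel_left] at this
    rw [Finset.sum_congr rfl fun x _ => this x, Finset.sum_const_zero, mul_zero]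
  intro n hn
  have := (Cfsg.Agent.Lib.H23.mem_inertia H ϑ ⟨z, hzJ⟩).1 hzT ⟨⟨n, hNJ hn⟩, Subgroup.mem_subgroupOf.2 hn⟩
  simpa [hϑdef] using this

/-- (INV) -/
theorem hinv_of_principal (hp : p.Prime) (hM : Cfsg.IsPModular p M) (N Q : Subgroup G) [N.Normal]
    (hQN : Q ≤ N) (hQ : ¬ p ∣ Q.relIndex N) (θ : G → ℂ)
    (hirr : Cfsg.IsIrrCharacter N (fun n : N => θ n)) (hB : sSum p N θ ≠ 0)
    (hidx : ¬ p ∣ N.index)
    (hcov : ∀ g : G, ∃ n ∈ N, ∃ z ∈ Subgroup.centralizer (Q : Set G), g = n * z) :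
    ∀ g : G, ∀ n ∈ N, θ (g * n * g⁻¹) = θ n := by
  intro g n hn
  obtain ⟨m, hm, z, hz, rfl⟩ := hcov g
  have hpz : ¬ p ∣ N.relIndex (N ⊔ Subgroup.zpowers z) := by
    intro hd
    apply hidx
    exact hd.trans (Subgroup.relIndex_dvd_index_of_normal N _)
  have h1 := inv_of_principal hp hM N Q hQN hQ θ hirr hB z hz hpz n hn
  have hzn : z * n * z⁻¹ ∈ N := ‹N.Normal›.conj_mem n hn z
  have hcf := isClassFunction_of_isCharacter (isCharacter_of_irr hirr) ⟨z * n * z⁻¹, hzn⟩ ⟨m, hm⟩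
  have h2 : θ (m * (z * n * z⁻¹) * m⁻¹) = θ (z * n * z⁻¹) := hcf
  rw [← h1, ← h2]
  congr 1
  group

end Cfsg.Agent.Lib.H28.AP
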